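import Groth.Prelude.Def_CechEdge
import Groth.Agent.SiteCoh.CechNatural
import Groth.Agent.CommAlg4.DeltaUniversal

/-! Cech cohomology and sheaf cohomology of presheaves as delta functors, edge maps. -/

set_option autoImplicit false
set_option backward.isDefEq.respectTransparency false
set_option backward.defeqAttrib.useBackward true
set_option linter.style.haveILetI false
set_option linter.unusedSectionVars false

universe u

open CategoryTheory CategoryTheory.Limits Opposite
open Groth.Agent.SiteCoh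

namespace Groth.Agent.CechEdgeLib

variable {C : Type u} [SmallCategory C] [HasPullbacks C] {U : C} {ι : Type u} (Y : ι → Over U)

/-- The restricted presheaf. -/
abbrev rst (P : Cᵒᵖ ⥤ AddCommGrpCat.{u}) : (Over U)ᵒᵖ ⥤ AddCommGrpCat.{u} :=
  (Over.forget U).op ⋙ P

lemma cxFunctor_map_eq {P Q : Cᵒᵖ ⥤ AddCommGrpCat.{u}} (φ : P ⟶ Q) :
    (CechEdge.cxFunctor Y).map φ = Cech.cxMap Y (Functor.whiskerLeft (Over.forget U).op φ) := by
  ext p x
  refine Cech.ext _ Y fun a => ?_
  refine Eq.trans ?_ (Cech.ev_map Y (Functor.whiskerLeft (Over.forget U).op φ) x a).symm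
  exact ConcreteCategory.congr_hom (Limits.limMap_π _ _) x

lemma shortExact_cx {S : ShortComplex (Cᵒᵖ ⥤ AddCommGrpCat.{u})} (hS : S.ShortExact) :
    (S.map (CechEdge.cxFunctor Y)).ShortExact := by
  have he : ∀ Z, (S.map ((evaluation _ _).obj Z)).ShortExact := fun Z => hS.map_of_exact _
  obtain ⟨h, hK⟩ := Cech.shortExact_cxMap Y (Functor.whiskerLeft (Over.forget U).op S.f)
    (Functor.whiskerLeft (Over.forget U).op S.g)
    (by rw [← Functor.whiskerLeft_comp, S.zero]; rfl)
    (fun a => (AddCommGrpCat.mono_iff_injective _).1 (he _).mono_f)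
    (fun a => (AddCommGrpCat.epi_iff_surjective _).1 (he _).epi_g)
    (fun a y hy => (ShortComplex.ab_exact_iff _).1 (he _).exact y hy)
  refine ShortComplex.shortExact_of_iso (?_ : ShortComplex.mk _ _ h ≅ S.map (CechEdge.cxFunctor Y)) hK
  exact ShortComplex.isoMk (Iso.refl _) (Iso.refl _) (Iso.refl _)
    ((Category.id_comp _).trans ((cxFunctor_map_eq Y S.f).trans (Category.comp_id _).symm))
    ((Category.id_comp _).trans ((cxFunctor_map_eq Y S.g).trans (Category.comp_id _).symm))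

instance : (CechEdge.cxFunctor (C := C) Y).Additive where
  map_add {P Q f g} := by
    rw [cxFunctor_map_eq, cxFunctor_map_eq, cxFunctor_map_eq]
    ext p x
    refine Cech.ext _ Y fun a => ?_
    change Cech.ev _ Y a (Cech.map Y _ x) = Cech.ev _ Y a (Cech.map Y _ x + Cech.map Y _ x)
    rw [map_add, Cech.ev_map, Cech.ev_map, Cech.ev_map]
    rfl

lemma cxFunctor_natural {S S' : ShortComplex (Cᵒᵖ ⥤ AddCommGrpCat.{u})} (hS : S.ShortExact)
    (hS' : S'.ShortExact) (φ : S ⟶ S') (n₀ n₁ : ℕ) (h : n₀ + 1 = n₁) :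
    (CechEdge.cxFunctor Y ⋙ HomologicalComplex.homologyFunctor _ _ n₀).map φ.τ₃ ≫
        (shortExact_cx Y hS').δ n₀ n₁ h =
      (shortExact_cx Y hS).δ n₀ n₁ h ≫
        (CechEdge.cxFunctor Y ⋙ HomologicalComplex.homologyFunctor _ _ n₁).map φ.τ₁ :=
  (HomologicalComplex.HomologySequence.δ_naturality ((CechEdge.cxFunctor Y).mapShortComplex.map φ)
    (shortExact_cx Y hS) (shortExact_cx Y hS') n₀ n₁ h).symm

/-- Cech cohomology as a delta functor on presheaves. -/
noncomputable def cechT : DeltaF.CohDeltaFunctor (Cᵒᵖ ⥤ AddCommGrpCat.{u}) AddCommGrpCat.{u} ℕ where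
  F n := CechEdge.cxFunctor Y ⋙ HomologicalComplex.homologyFunctor _ _ n
  additive n := inferInstance
  δ S hS n₀ n₁ h := (shortExact_cx Y hS).δ n₀ n₁ h
  δ_natural hS hS' φ n₀ n₁ h := cxFunctor_natural Y hS hS' φ n₀ n₁ h
  exact₂ S hS n := (shortExact_cx Y hS).homology_exact₂ n
  comp_δ S hS n₀ n₁ h := (shortExact_cx Y hS).comp_δ n₀ n₁ h
  exact₃ S hS n₀ n₁ h := (shortExact_cx Y hS).homology_exact₃ n₀ n₁ h
  δ_comp S hS n₀ n₁ h := (shortExact_cx Y hS).δ_comp n₀ n₁ h
  exact₁ S hS n₀ n₁ h := (shortExact_cx Y hS).homology_exact₁ n₀ n₁ h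

lemma cechT_effaceable : (cechT Y).IsEffaceable := fun n P => by
  let Ps : Sheaf (⊥ : GrothendieckTopology C) AddCommGrpCat.{u} := ⟨P, Presheaf.isSheaf_bot P⟩
  refine ⟨(Injective.under Ps).obj, (Injective.ι Ps).hom,
    inferInstanceAs (Mono ((sheafToPresheaf _ _).map (Injective.ι Ps))), ?_⟩
  exact (isZero_cechH_of_injective (Injective.under Ps) Y n).eq_of_tgt _ _

variable (J : GrothendieckTopology C) (U)

/-- `H^n(U, P^#)` as a functor of the presheaf. -/
noncomputable abbrev hF (n : ℕ) : (Cᵒᵖ ⥤ AddCommGrpCat.{u}) ⥤ AddCommGrpCat.{u} :=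
  presheafToSheaf J AddCommGrpCat.{u} ⋙ Sheaf.cohomologyPresheafFunctor J n ⋙ (evaluation _ _).obj (op U)

lemma hF_map_apply {P Q : Cᵒᵖ ⥤ AddCommGrpCat.{u}} (φ : P ⟶ Q) (n : ℕ)
    (x : Abelian.Ext (CohCx.freeSheaf J U) (CechEdge.shf J P) n) :
    (hF U J n).map φ x = x.comp (Abelian.Ext.mk₀ (CechEdge.shfMap J φ)) (add_zero n) := rfl

/-- Cohomology of the associated sheaf as a delta functor on presheaves. -/
noncomputable def sheafT :
    DeltaF.CohDeltaFunctor (Cᵒᵖ ⥤ AddCommGrpCat.{u}) AddCommGrpCat.{u} ℕ where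
  F n := hF U J n
  additive n := ⟨fun {P Q f g} => by
    ext x
    change (hF U J n).map (f + g) x = (hF U J n).map f x + (hF U J n).map g x
    exact (congrArg (fun e => Abelian.Ext.comp (X := CohCx.freeSheaf J U) (Y := CechEdge.shf J P) x e
        (add_zero n))
      ((congrArg Abelian.Ext.mk₀ (Functor.map_add _)).trans (Abelian.Ext.mk₀_add _ _))).trans
      (Abelian.Ext.comp_add _ _ _ _)⟩
  δ S hS n₀ n₁ h := AddCommGrpCat.ofHom
    ((hS.map_of_exact (presheafToSheaf J AddCommGrpCat.{u})).extClass.postcomp (CohCx.freeSheaf J U) h)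
  δ_natural {S S'} hS hS' φ n₀ n₁ h := by
    ext x
    let Φ := (presheafToSheaf J AddCommGrpCat.{u}).mapShortComplex.map φ
    have := ShortComplex.ShortExact.extClass_naturality (hS.map_of_exact (presheafToSheaf J _))
      (hS'.map_of_exact (presheafToSheaf J _)) Φ
    change ((hF U J n₀).map φ.τ₃ x).comp _ h = (hF U J n₁).map φ.τ₁ (x.comp _ h)
    rw [hF_map_apply, hF_map_apply]
    refine (Abelian.Ext.comp_assoc_of_second_deg_zero _ _ _ _).trans ?_
    refine Eq.trans ?_ (Abelian.Ext.comp_assoc_of_third_deg_zero _ _ _ _).symm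
    exact congrArg (fun e => x.comp e h) this.symm
  exact₂ S hS n := Abelian.Ext.covariant_sequence_exact₂' (CohCx.freeSheaf J U)
    (hS.map_of_exact (presheafToSheaf J AddCommGrpCat.{u})) n
  comp_δ S hS n₀ n₁ h := by
    ext x
    exact (Abelian.Ext.comp_assoc_of_second_deg_zero _ _ _ _).trans
      ((congrArg (fun e => Abelian.Ext.comp (X := CohCx.freeSheaf J U) (Y := CechEdge.shf J S.X₂) x e h)
        (ShortComplex.ShortExact.comp_extClass (hS.map_of_exact (presheafToSheaf J AddCommGrpCat.{u})))).trans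
        (Abelian.Ext.comp_zero _ _ _ _ _))
  exact₃ S hS n₀ n₁ h := Abelian.Ext.covariant_sequence_exact₃' (CohCx.freeSheaf J U)
    (hS.map_of_exact (presheafToSheaf J AddCommGrpCat.{u})) n₀ n₁ h
  δ_comp S hS n₀ n₁ h := by
    ext x
    exact (Abelian.Ext.comp_assoc_of_third_deg_zero _ _ _ _).trans
      ((congrArg (fun e => Abelian.Ext.comp (X := CohCx.freeSheaf J U) (Y := CechEdge.shf J S.X₃) x e h)
        (ShortComplex.ShortExact.extClass_comp (hS.map_of_exact (presheafToSheaf J AddCommGrpCat.{u})))).trans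
        (Abelian.Ext.comp_zero _ _ _ _ _))
  exact₁ S hS n₀ n₁ h := Abelian.Ext.covariant_sequence_exact₁' (CohCx.freeSheaf J U)
    (hS.map_of_exact (presheafToSheaf J AddCommGrpCat.{u})) n₀ n₁ h

end Groth.Agent.CechEdgeLib
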