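import Groth.Agent.CechEdgeLib.Basic

/-! Existence, uniqueness and injectivity/bijectivity properties of the edge maps. -/

set_option autoImplicit false
set_option backward.isDefEq.respectTransparency false
set_option backward.defeqAttrib.useBackward true
set_option linter.style.haveILetI false
set_option linter.unusedSectionVars false

universe u

open CategoryTheory CategoryTheory.Limits Opposite
open Groth.Agent.SiteCoh

namespace Groth.Agent.CechEdgeLib

variable {C : Type u} [SmallCategory C] [HasPullbacks C] {J : GrothendieckTopology C}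
  {U : C} {ι : Type u} {Y : ι → Over U}

lemma cechHMap_comp {P Q R : Cᵒᵖ ⥤ AddCommGrpCat.{u}} (φ : P ⟶ Q) (ψ : Q ⟶ R) (n : ℕ)
    (x : CohCx.cechH P Y n) :
    CechEdge.cechHMap Y (φ ≫ ψ) n x = CechEdge.cechHMap Y ψ n (CechEdge.cechHMap Y φ n x) :=
  ConcreteCategory.congr_hom ((CechEdge.cxFunctor Y ⋙ HomologicalComplex.homologyFunctor _ _ n).map_comp φ ψ) x

lemma ev_toCech₀ (P : Cᵒᵖ ⥤ AddCommGrpCat.{u}) (x : P.obj (op U)) (a : Fin 1 → ι) :
    Cech.ev (rst P) Y a (CechEdge.toCech₀ P Y x) = P.map (∏ᶜ (Y ∘ a)).hom.op x :=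
  ConcreteCategory.congr_hom (Pi.lift_π _ _) x

lemma toCech₀_natural {P Q : Cᵒᵖ ⥤ AddCommGrpCat.{u}} (φ : P ⟶ Q) :
    φ.app (op U) ≫ CechEdge.toCech₀ Q Y =
      CechEdge.toCech₀ P Y ≫ ((CechEdge.cxFunctor Y).map φ).f 0 := by
  rw [cxFunctor_map_eq]
  ext x
  refine Cech.ext _ Y fun a => ?_
  refine (ev_toCech₀ Q (φ.app (op U) x) a).trans ?_
  refine Eq.trans ?_ (Cech.ev_map Y (Functor.whiskerLeft (Over.forget U).op φ) _ a).symm
  refine Eq.trans ?_ (congrArg (φ.app (op (Cech.inter Y a).left)) (ev_toCech₀ P x a)).symm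
  exact (NatTrans.naturality_apply φ _ x).symm

omit [HasPullbacks C] in
lemma lift_homology_natural {K L : CochainComplex AddCommGrpCat.{u} ℕ} (ψ : K ⟶ L) {A B : AddCommGrpCat.{u}}
    (g : A ⟶ B) (x : A ⟶ K.X 0) (y : B ⟶ L.X 0) (h : g ≫ y = x ≫ ψ.f 0)
    (hx : x ≫ K.d 0 1 = 0) (hy : y ≫ L.d 0 1 = 0) :
    g ≫ L.liftCycles y 1 (by simp) hy ≫ L.homologyπ 0 =
      (K.liftCycles x 1 (by simp) hx ≫ K.homologyπ 0) ≫ HomologicalComplex.homologyMap ψ 0 := by
  rw [Category.assoc, HomologicalComplex.homologyπ_naturality, ← Category.assoc, ← Category.assoc]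
  congr 1
  rw [← cancel_mono (L.iCycles 0)]
  simp [h]

lemma toCech_natural {P Q : Cᵒᵖ ⥤ AddCommGrpCat.{u}} (φ : P ⟶ Q) (s : P.obj (op U)) :
    CechEdge.toCech Y Q (φ.app (op U) s) = CechEdge.cechHMap Y φ 0 (CechEdge.toCech Y P s) := by
  have := lift_homology_natural ((CechEdge.cxFunctor Y).map φ) (φ.app (op U)) _ _ (toCech₀_natural φ)
    (CechEdge.toCech₀_d P Y) (CechEdge.toCech₀_d Q Y)
  exact ConcreteCategory.congr_hom this s

lemma hcomm (Z : Over U) (i j : ι) (f : Z ⟶ Y i) (g : Z ⟶ Y j) :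
    (Over.forget U).map f ≫ (Y i).hom = (Over.forget U).map g ≫ (Y j).hom :=
  (Over.w f).trans (Over.w g).symm

lemma hpair (Z : C) (i j : ι) (f : Z ⟶ (Y i).left) (g : Z ⟶ (Y j).left)
    (h : f ≫ (Y i).hom = g ≫ (Y j).hom) :
    ∃ (Z' : Over U) (e : Z ⟶ (Over.forget U).obj Z') (f' : Z' ⟶ Y i) (g' : Z' ⟶ Y j),
      e ≫ (Over.forget U).map f' = f ∧ e ≫ (Over.forget U).map g' = g :=
  ⟨Over.mk (f ≫ (Y i).hom), 𝟙 Z, Over.homMk f rfl, Over.homMk g h.symm,
    Category.id_comp _, Category.id_comp _⟩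

variable (hcov : Sieve.ofArrows (fun i => (Y i).left) (fun i => (Y i).hom) ∈ J U)

include hcov in
lemma toCech_bijective (F : Sheaf J AddCommGrpCat.{u}) :
    Function.Bijective (CechEdge.toCech Y F.obj) := by
  let e := cechH0Iso (Over.forget U) Y (fun i => (Y i).hom) hcomm hcov hpair F
  have he : ∀ s, CechEdge.toCech Y F.obj s = e.hom s := by
    have h0 : CechEdge.toCech₀ F.obj Y = cechAug (Over.forget U) Y (fun i => (Y i).hom) F := by
      ext x
      refine Cech.ext _ Y fun a => ?_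
      refine (ConcreteCategory.congr_hom (Pi.lift_π _ _) x).trans ?_
      refine Eq.trans ?_ (ev_cechAug (Over.forget U) Y (fun i => (Y i).hom) F x a).symm
      exact congrArg (fun m => F.obj.map m.op x) (Over.w (Pi.π (fun k => Y (a k)) 0)).symm
    have : CechEdge.toCycles F.obj Y ≫ (CechEdge.cx F.obj Y).homologyπ 0 = e.hom := by
      simp only [e, cechH0Iso, CochainComplex.isoHomologyπ₀, Iso.trans_hom, asIso_hom]
      congr 1
      rw [← cancel_mono ((CechEdge.cx F.obj Y).iCycles 0), CechEdge.toCycles_i]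
      exact h0.trans (HomologicalComplex.liftCycles_i _ _ _ _ _).symm
    exact fun s => ConcreteCategory.congr_hom this s
  have hb : Function.Bijective e.hom := e.addCommGroupIsoToAddEquiv.bijective
  exact ⟨fun a b h => hb.1 (by rw [← he, ← he]; exact h), fun y => by
    obtain ⟨s, hs⟩ := hb.2 y; exact ⟨s, (he s).trans hs⟩⟩

lemma sectH0_natural {F G : Sheaf J AddCommGrpCat.{u}} (ψ : F ⟶ G) (s : F.obj.obj (op U)) :
    CechEdge.HUmap ψ 0 U (CechEdge.sectH0 J U F s) = CechEdge.sectH0 J U G (ψ.hom.app (op U) s) := by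
  change ((Abelian.Ext.addEquiv₀).symm ((CohFree.homEquivSect J U F).symm s)).comp
    (Abelian.Ext.mk₀ ψ) (add_zero 0) = _
  rw [Abelian.Ext.addEquiv₀_symm_apply, Abelian.Ext.mk₀_comp_mk₀]
  change _ = (Abelian.Ext.addEquiv₀).symm ((CohFree.homEquivSect J U G).symm (ψ.hom.app (op U) s))
  rw [Abelian.Ext.addEquiv₀_symm_apply]
  refine congrArg Abelian.Ext.mk₀ ((AddEquiv.eq_symm_apply _).2 ?_)
  conv_rhs => rw [← (CohFree.homEquivSect J U F).apply_symm_apply s]
  rfl

/-- The Cech class of a cocycle in the associated sheaf. -/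
noncomputable def h0Equiv (F : Sheaf J AddCommGrpCat.{u}) : F.obj.obj (op U) ≃+ CohCx.cechH F.obj Y 0 :=
  AddEquiv.ofBijective (CechEdge.toCech Y F.obj) (toCech_bijective hcov F)

/-- The edge map in degree zero. -/
noncomputable def edge0 (P : Cᵒᵖ ⥤ AddCommGrpCat.{u}) :
    CohCx.cechH P Y 0 →+ CohSite.HU (CechEdge.shf J P) 0 U :=
  ((CechEdge.sectH0 J U (CechEdge.shf J P)).toAddMonoidHom.comp
    (h0Equiv hcov (CechEdge.shf J P)).symm.toAddMonoidHom).comp
      (CechEdge.cechHMap Y (toSheafify J P) 0)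

lemma edge0_natural {P Q : Cᵒᵖ ⥤ AddCommGrpCat.{u}} (φ : P ⟶ Q) (x : CohCx.cechH P Y 0) :
    edge0 hcov Q (CechEdge.cechHMap Y φ 0 x) = CechEdge.HUmap (CechEdge.shfMap J φ) 0 U (edge0 hcov P x) := by
  change CechEdge.sectH0 J U _ ((h0Equiv hcov _).symm _) =
    CechEdge.HUmap _ 0 U (CechEdge.sectH0 J U _ ((h0Equiv hcov _).symm _))
  rw [sectH0_natural]
  refine congrArg _ ((AddEquiv.symm_apply_eq _).2 ?_)
  refine Eq.trans ?_ (toCech_natural (CechEdge.shfMap J φ).hom _).symm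
  refine Eq.trans ?_ (congrArg (CechEdge.cechHMap Y (CechEdge.shfMap J φ).hom 0)
    ((h0Equiv hcov (CechEdge.shf J P)).apply_symm_apply _)).symm
  rw [← cechHMap_comp, ← cechHMap_comp, toSheafify_naturality]

/-- The degree zero transformation. -/
noncomputable def edge0Nat : (cechT Y).F 0 ⟶ (sheafT U J).F 0 where
  app P := AddCommGrpCat.ofHom (edge0 hcov P)
  naturality P Q φ := by ext x; exact edge0_natural hcov φ x

include hcov in
theorem exists_isEdge :
    ∃ e : ∀ (P : Cᵒᵖ ⥤ AddCommGrpCat.{u}) (p : ℕ), CohCx.cechH P Y p →+ CohSite.HU (CechEdge.shf J P) p U,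
      CechEdge.IsEdge J Y e := by
  obtain ⟨τ, hτ, -⟩ := CommAlg4.DeltaUniversal.isUniversal (cechT_effaceable Y) (sheafT U J) (edge0Nat hcov)
  refine ⟨fun P p => ((τ.app p).app P).hom, hcov, fun P s => ?_, fun P Q φ p x => ?_, fun S hS hC p x => ?_⟩
  · rw [hτ]
    change CechEdge.sectH0 J U _ ((h0Equiv hcov _).symm _) = _
    refine congrArg _ ((AddEquiv.symm_apply_eq _).2 ?_)
    exact (toCech_natural (toSheafify J P) s).symm
  · exact ConcreteCategory.congr_hom ((τ.app p).naturality φ) x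
  · exact ConcreteCategory.congr_hom (τ.comm S hS p (p + 1) rfl) x

variable {e : ∀ (P : Cᵒᵖ ⥤ AddCommGrpCat.{u}) (p : ℕ), CohCx.cechH P Y p →+ CohSite.HU (CechEdge.shf J P) p U}

lemma HUmap_injective {F G : Sheaf J AddCommGrpCat.{u}} (ψ : F ⟶ G) [IsIso ψ] (p : ℕ) :
    Function.Bijective (CechEdge.HUmap ψ p U) :=
  (asIso (((Sheaf.cohomologyPresheafFunctor J p).map ψ).app (op U))).addCommGroupIsoToAddEquiv.bijective

lemma isIso_shfMap_toSheafify (P : Cᵒᵖ ⥤ AddCommGrpCat.{u}) :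
    IsIso (CechEdge.shfMap J (toSheafify J P)) := by
  haveI : IsIso ((sheafificationAdjunction J AddCommGrpCat.{u}).counit.app (CechEdge.shf J P)) :=
    inferInstance
  have h := (sheafificationAdjunction J AddCommGrpCat.{u}).left_triangle_components P
  exact IsIso.of_isIso_fac_right h

theorem edge_unique (he : CechEdge.IsEdge J Y e)
    {e' : ∀ (P : Cᵒᵖ ⥤ AddCommGrpCat.{u}) (p : ℕ), CohCx.cechH P Y p →+ CohSite.HU (CechEdge.shf J P) p U}
    (he' : CechEdge.IsEdge J Y e') : e = e' := by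
  let t : ∀ {f : ∀ (P : Cᵒᵖ ⥤ AddCommGrpCat.{u}) (p : ℕ),
      CohCx.cechH P Y p →+ CohSite.HU (CechEdge.shf J P) p U}, CechEdge.IsEdge J Y f → (cechT Y ⟶ sheafT U J) :=
    fun {f} hf =>
      { app := fun n =>
          { app := fun P => AddCommGrpCat.ofHom (f P n)
            naturality := fun P Q φ => by ext x; exact hf.natural P Q φ n x }
        comm := fun S hS n₀ n₁ h => by
          subst h
          ext x
          exact hf.delta S hS (shortExact_cx Y hS) n₀ x }
  obtain ⟨τ, -, huniq⟩ := CommAlg4.DeltaUniversal.isUniversal (cechT_effaceable Y) (sheafT U J) ((t he).app 0)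
  have h0 : (t he').app 0 = (t he).app 0 := by
    ext P x
    haveI := isIso_shfMap_toSheafify (J := J) P
    refine (HUmap_injective (U := U) (CechEdge.shfMap J (toSheafify J P)) 0).1 ?_
    change CechEdge.HUmap _ 0 U (e' P 0 x) = CechEdge.HUmap _ 0 U (e P 0 x)
    rw [← he'.natural, ← he.natural]
    obtain ⟨s, hs⟩ := (toCech_bijective he.cover (CechEdge.shf J P)).2 (CechEdge.cechHMap Y (toSheafify J P) 0 x)
    exact hs ▸ (he'.zero _ s).trans (he.zero _ s).symm
  have := (huniq (t he) rfl).trans (huniq (t he') h0).symm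
  funext P p
  exact congrArg (fun T : cechT Y ⟶ sheafT U J => ((T.app p).app P).hom) this

end Groth.Agent.CechEdgeLib
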