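import Groth.Agent.CechEdgeLib.Edge

/-! The sheaf criterion, bijectivity for acyclic covers, injectivity in degree one, refinements. -/

set_option autoImplicit false
set_option backward.isDefEq.respectTransparency false
set_option backward.defeqAttrib.useBackward true
set_option linter.style.haveILetI false
set_option linter.unusedSectionVars false

universe u

open CategoryTheory CategoryTheory.Limits Opposite
open Groth.Agent.SiteCoh

namespace Groth.Agent.CechEdgeLib

variable {C : Type u} [SmallCategory C] [HasPullbacks C] {J : GrothendieckTopology C}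
  {U : C} {ι : Type u} {Y : ι → Over U}

lemma toCech_eq_iff (P : Cᵒᵖ ⥤ AddCommGrpCat.{u}) (s : P.obj (op U)) (c : (Cech.cx (rst P) Y).cycles 0) :
    CechEdge.toCech Y P s = (CechEdge.cx P Y).homologyπ 0 c ↔ CechEdge.toCycles P Y s = c :=
  ((AddCommGrpCat.mono_iff_injective (CechEdge.cx P Y).isoHomologyπ₀.hom).1 inferInstance).eq_iff

lemma iCycles_toCycles (P : Cᵒᵖ ⥤ AddCommGrpCat.{u}) (s : P.obj (op U)) :
    (CechEdge.cx P Y).iCycles 0 (CechEdge.toCycles P Y s) = CechEdge.toCech₀ P Y s :=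
  ConcreteCategory.congr_hom (CechEdge.toCycles_i P Y) s

lemma val_toCech₀ (P : Cᵒᵖ ⥤ AddCommGrpCat.{u}) (s : P.obj (op U)) (i : ι) :
    Cech.val (rst P) Y (CechEdge.toCech₀ P Y s) (fun _ : Fin 1 => ⟨i, 𝟙 (Y i)⟩) = P.map (Y i).hom.op s := by
  change P.map _ (Cech.ev (rst P) Y _ _) = _
  rw [ev_toCech₀]
  refine (ConcreteCategory.congr_hom (P.map_comp _ _).symm s).trans ?_
  exact congrArg (fun m => P.map m.op s)
    (Over.w (Pi.lift (f := fun _ : Fin 1 => Y i) fun _ => 𝟙 (Y i)))

/-- Bijectivity of `toCech` gives gluing. -/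
lemma existsUnique_glue (P : Cᵒᵖ ⥤ AddCommGrpCat.{u}) (hb : Function.Bijective (CechEdge.toCech Y P))
    (x : ∀ i, P.obj (op (Y i).left))
    (hx : ∀ (Z : C) i j (f : Z ⟶ (Y i).left) (g : Z ⟶ (Y j).left),
      f ≫ (Y i).hom = g ≫ (Y j).hom → P.map f.op (x i) = P.map g.op (x j)) :
    ∃! t : P.obj (op U), ∀ i, P.map (Y i).hom.op t = x i := by
  let c₀ : (Cech.cx (rst P) Y).X 0 :=
    Cech.mk (rst P) Y fun a => P.map (Pi.π (fun k => Y (a k)) 0).left.op (x (a 0))
  have hc : (Cech.cx (rst P) Y).d 0 1 c₀ = 0 := by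
    refine Cech.ext _ Y fun a => ?_
    rw [Cech.ev_d, Fin.sum_univ_two, map_zero]
    simp only [Fin.val_zero, pow_zero, one_zsmul, Fin.val_one, pow_one, neg_smul, c₀, Cech.ev_mk]
    rw [add_neg_eq_zero]
    change P.map _ (P.map _ _) = P.map _ (P.map _ _)
    refine (ConcreteCategory.congr_hom (P.map_comp _ _).symm _).trans
      (Eq.trans ?_ (ConcreteCategory.congr_hom (P.map_comp _ _) _))
    exact hx _ _ _ _ _
      ((Over.w (Cech.face Y a 0 ≫ Pi.π (fun k => Y ((a ∘ Fin.succAbove 0) k)) 0)).trans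
        (Over.w (Cech.face Y a 1 ≫ Pi.π (fun k => Y ((a ∘ Fin.succAbove 1) k)) 0)).symm)
  obtain ⟨z, hz⟩ : ∃ z, (Cech.cx (rst P) Y).iCycles 0 z = c₀ := by
    have hk := ((Cech.cx (rst P) Y).sc' 0 0 1)
    obtain ⟨z, hz⟩ := (ShortComplex.ab_exact_iff _).1
      ((ShortComplex.mk _ _ ((Cech.cx (rst P) Y).iCycles_d 0 1)).exact_of_f_is_kernel
        ((Cech.cx (rst P) Y).cyclesIsKernel 0 1 (by simp))) c₀ hc
    exact ⟨z, hz⟩
  obtain ⟨t, ht⟩ := hb.2 ((CechEdge.cx P Y).homologyπ 0 z)
  have ht' : CechEdge.toCech₀ P Y t = c₀ := by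
    rw [← iCycles_toCycles, (toCech_eq_iff P t z).1 ht]
    exact hz
  refine ⟨t, fun i => ?_, fun t' ht'' => ?_⟩
  · rw [← val_toCech₀, ht']
    change P.map _ (Cech.ev (rst P) Y _ c₀) = _
    simp only [c₀, Cech.ev_mk]
    change P.map _ (P.map _ _) = _
    refine (ConcreteCategory.congr_hom (P.map_comp _ _).symm _).trans ?_
    refine (congrArg (fun m => P.map m.op (x i)) (?_ : _ = 𝟙 (Y i).left)).trans
      ((congrArg (fun m => P.map m (x i)) op_id).trans (ConcreteCategory.congr_hom (P.map_id _) (x i)))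
    exact congrArg CommaMorphism.left
      (Pi.lift_π (f := fun _ : Fin 1 => Y i) (fun _ => 𝟙 (Y i)) 0)
  · refine hb.1 (ht.symm ▸ (toCech_eq_iff P t' z).2 ?_)
    refine (AddCommGrpCat.mono_iff_injective ((CechEdge.cx P Y).iCycles 0)).1 inferInstance ?_
    rw [iCycles_toCycles]
    refine Eq.trans (Cech.ext (rst P) Y fun a => ?_) hz.symm
    rw [ev_toCech₀]
    simp only [c₀, Cech.ev_mk]
    rw [← ht'' (a 0)]
    refine Eq.trans ?_ (ConcreteCategory.congr_hom (P.map_comp _ _) _)
    exact congrArg (fun m => P.map m.op t') (Over.w (Pi.π (fun k => Y (a k)) 0)).symm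

lemma isSheaf_of_bijective (P : Cᵒᵖ ⥤ AddCommGrpCat.{u})
    (h : ∀ (U : C) (ι : Type u) (Y : ι → Over U),
      Sieve.ofArrows (fun i => (Y i).left) (fun i => (Y i).hom) ∈ J U →
        Function.Bijective (CechEdge.toCech Y P)) : Presheaf.IsSheaf J P := by
  rw [Presheaf.isSheaf_iff_isSheaf_forget J P (CategoryTheory.forget _), isSheaf_iff_isSheaf_of_type]
  intro V S hS
  let W : (Σ Z : C, {f : Z ⟶ V // S f}) → Over V := fun i => Over.mk i.2.1
  have hW : Sieve.ofArrows (fun i => (W i).left) (fun i => (W i).hom) = S := by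
    refine le_antisymm ((Sieve.generate_le_iff _ _).2 ?_) fun Z f hf => ?_
    · rintro Z f ⟨i⟩; exact i.2.2
    · exact Sieve.ofArrows_mk (fun i => (W i).left) (fun i => (W i).hom) ⟨Z, f, hf⟩
  intro x hx
  obtain ⟨t, ht, huniq⟩ := existsUnique_glue (Y := W) P (h V _ W (hW.symm ▸ hS))
    (fun i => x i.2.1 i.2.2) (fun Z i j f g hfg => hx f g i.2.2 j.2.2 hfg)
  exact ⟨t, fun Z f hf => ht ⟨Z, f, hf⟩, fun t' ht' => huniq t' fun i => ht' i.2.1 i.2.2⟩

section Step

variable {e : ∀ (P : Cᵒᵖ ⥤ AddCommGrpCat.{u}) (p : ℕ), CohCx.cechH P Y p →+ CohSite.HU (CechEdge.shf J P) p U}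
  (he : CechEdge.IsEdge J Y e)

lemma HUmap_comp {F G H : Sheaf J AddCommGrpCat.{u}} (a : F ⟶ G) (b : G ⟶ H) (p : ℕ)
    (x : CohSite.HU F p U) :
    CechEdge.HUmap (a ≫ b) p U x = CechEdge.HUmap b p U (CechEdge.HUmap a p U x) :=
  ConcreteCategory.congr_hom (((Sheaf.cohomologyPresheafFunctor J p) ⋙ (evaluation _ _).obj (op U)).map_comp a b) x

include he in
lemma edgeSh_natural {F G : Sheaf J AddCommGrpCat.{u}} (ψ : F ⟶ G) (p : ℕ) (x : CohCx.cechH F.obj Y p) :
    CechEdge.edgeSh e G p (CechEdge.cechHMap Y ψ.hom p x) = CechEdge.HUmap ψ p U (CechEdge.edgeSh e F p x) := by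
  change CechEdge.HUmap _ p U (e G.obj p _) = CechEdge.HUmap ψ p U (CechEdge.HUmap _ p U (e F.obj p x))
  rw [he.natural, ← HUmap_comp, ← HUmap_comp]
  exact congrArg (fun m => CechEdge.HUmap m p U (e F.obj p x))
    ((sheafificationAdjunction J AddCommGrpCat.{u}).counit.naturality ψ)

include he in
lemma edgeSh_zero (F : Sheaf J AddCommGrpCat.{u}) :
    Function.Bijective (CechEdge.edgeSh e F 0) := by
  have h : ∀ s, CechEdge.edgeSh e F 0 (CechEdge.toCech Y F.obj s) = CechEdge.sectH0 J U F s := fun s => by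
    change CechEdge.HUmap _ 0 U (e F.obj 0 _) = _
    rw [he.zero, sectH0_natural]
    refine congrArg _ ?_
    exact ConcreteCategory.congr_hom (NatTrans.congr_app
      ((sheafificationAdjunction J AddCommGrpCat.{u}).right_triangle_components F) (op U)) s
  have hb := toCech_bijective he.cover F
  exact (Function.Bijective.of_comp_iff _ hb).1
    (by rw [show (CechEdge.edgeSh e F 0) ∘ (CechEdge.toCech Y F.obj) = CechEdge.sectH0 J U F from funext h]
        exact (CechEdge.sectH0 J U F).bijective)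

variable {S : ShortComplex (Sheaf J AddCommGrpCat.{u})} (hS : S.ShortExact)

/-- The presheaf quotient. -/
noncomputable abbrev quo (S : ShortComplex (Sheaf J AddCommGrpCat.{u})) : ShortComplex (Cᵒᵖ ⥤ AddCommGrpCat.{u}) :=
  ShortComplex.mk S.f.hom (cokernel.π S.f.hom) (cokernel.condition _)

/-- Comparison of the presheaf quotient with the quotient sheaf. -/
noncomputable abbrev rho (S : ShortComplex (Sheaf J AddCommGrpCat.{u})) : cokernel S.f.hom ⟶ S.X₃.obj :=
  cokernel.desc _ S.g.hom (congrArg (fun m => m.hom) S.zero)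

include hS in
lemma quo_shortExact : (quo S).ShortExact :=
  haveI := hS.mono_f
  haveI : Mono S.f.hom := inferInstanceAs (Mono ((sheafToPresheaf J _).map S.f))
  { exact := ShortComplex.exact_cokernel _ }

include hS in
lemma rho_injective (Z : Cᵒᵖ) : Function.Injective ((rho S).app Z) := by
  have he' := ((quo_shortExact hS).map_of_exact ((evaluation _ _).obj Z))
  refine (injective_iff_map_eq_zero _).2 fun r hr => ?_
  obtain ⟨y, rfl⟩ := (AddCommGrpCat.epi_iff_surjective _).1 he'.epi_g r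
  have hy : S.g.hom.app Z y = 0 := (ConcreteCategory.congr_hom (NatTrans.congr_app
    (cokernel.π_desc S.f.hom S.g.hom (congrArg (fun m => m.hom) S.zero)) Z) y).symm.trans hr
  obtain ⟨x, rfl⟩ := sections_exact hS _ y hy
  exact ConcreteCategory.congr_hom (NatTrans.congr_app (cokernel.condition S.f.hom) Z) x

lemma rho_surjective (Z : Cᵒᵖ) (h : Function.Surjective (S.g.hom.app Z)) :
    Function.Surjective ((rho S).app Z) := fun r => by
  obtain ⟨y, rfl⟩ := h r
  exact ⟨(cokernel.π S.f.hom).app Z y, ConcreteCategory.congr_hom (NatTrans.congr_app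
    (cokernel.π_desc S.f.hom S.g.hom (congrArg (fun m => m.hom) S.zero)) Z) y⟩

/-- The sheafified quotient maps to the quotient sheaf. -/
noncomputable abbrev rho' (S : ShortComplex (Sheaf J AddCommGrpCat.{u})) :
    CechEdge.shf J (cokernel S.f.hom) ⟶ S.X₃ :=
  CechEdge.shfMap J (rho S) ≫ (sheafificationAdjunction J AddCommGrpCat.{u}).counit.app S.X₃

/-- Morphism of sequences. -/
noncomputable def quoHom (S : ShortComplex (Sheaf J AddCommGrpCat.{u})) :
    (quo S).map (presheafToSheaf J AddCommGrpCat.{u}) ⟶ S :=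
  ShortComplex.homMk ((sheafificationAdjunction J AddCommGrpCat.{u}).counit.app S.X₁)
    ((sheafificationAdjunction J AddCommGrpCat.{u}).counit.app S.X₂) (rho' S)
    ((sheafificationAdjunction J AddCommGrpCat.{u}).counit.naturality S.f).symm (by
      change _ = (presheafToSheaf J _).map (cokernel.π S.f.hom) ≫ (presheafToSheaf J _).map (rho S) ≫ _
      rw [← Category.assoc, ← Functor.map_comp, cokernel.π_desc]
      exact ((sheafificationAdjunction J AddCommGrpCat.{u}).counit.naturality S.g).symm)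

include hS in
lemma isIso_rho' : IsIso (rho' S) := by
  have hq := (quo_shortExact hS).map_of_exact (presheafToSheaf J AddCommGrpCat.{u})
  haveI := hq.epi_g
  haveI := hS.epi_g
  let Φ := quoHom S
  haveI i₁ : IsIso Φ.τ₁ := inferInstanceAs (IsIso ((sheafificationAdjunction J AddCommGrpCat.{u}).counit.app S.X₁))
  haveI i₂ : IsIso Φ.τ₂ := inferInstanceAs (IsIso ((sheafificationAdjunction J AddCommGrpCat.{u}).counit.app S.X₂))
  obtain ⟨l, hl⟩ := CokernelCofork.IsColimit.desc' hS.gIsCokernel (inv Φ.τ₂ ≫ ((quo S).map _).g) (by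
    rw [← cancel_epi Φ.τ₁, comp_zero, ← Category.assoc, Φ.comm₁₂, Category.assoc, IsIso.hom_inv_id_assoc,
      ((quo S).map _).zero])
  change S.g ≫ l = _ at hl
  refine ⟨l, ?_, ?_⟩
  · rw [← cancel_epi ((quo S).map (presheafToSheaf J AddCommGrpCat.{u})).g, ← Category.assoc]
    erw [← Φ.comm₂₃]
    rw [Category.assoc, hl, IsIso.hom_inv_id_assoc]
    exact (Category.comp_id _).symm
  · rw [← cancel_epi S.g, ← Category.assoc, hl, Category.assoc]
    erw [← Φ.comm₂₃]
    rw [IsIso.inv_hom_id_assoc, Category.comp_id]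

include he hS in
lemma edgeSh_rho (p : ℕ) (x : CohCx.cechH (cokernel S.f.hom) Y p) :
    CechEdge.edgeSh e S.X₃ p (CechEdge.cechHMap Y (rho S) p x) =
      CechEdge.HUmap (rho' S) p U (e (cokernel S.f.hom) p x) := by
  change CechEdge.HUmap _ p U (e S.X₃.obj p _) = _
  rw [he.natural, HUmap_comp]
  rfl

include he in
lemma edgeSh_delta (p : ℕ) (x : CohCx.cechH (cokernel S.f.hom) Y p) :
    CechEdge.edgeSh e S.X₁ (p + 1) ((shortExact_cx Y (quo_shortExact hS)).δ p (p + 1) rfl x) =
      CechEdge.extδ hS U p (CechEdge.edgeSh e S.X₃ p (CechEdge.cechHMap Y (rho S) p x)) := by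
  rw [edgeSh_rho he hS]
  change CechEdge.HUmap _ (p + 1) U (e S.X₁.obj (p + 1) _) = _
  erw [he.delta (quo S) (quo_shortExact hS) (shortExact_cx Y (quo_shortExact hS)) p x]
  have hq := (quo_shortExact hS).map_of_exact (presheafToSheaf J AddCommGrpCat.{u})
  have hn := ShortComplex.ShortExact.extClass_naturality hq hS (quoHom S)
  let y : Abelian.Ext (CohCx.freeSheaf J U) (CechEdge.shf J (cokernel S.f.hom)) p := e (cokernel S.f.hom) p x
  change (y.comp hq.extClass rfl).comp (Abelian.Ext.mk₀ (quoHom S).τ₁) (add_zero _) =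
    (y.comp (Abelian.Ext.mk₀ (rho' S)) (add_zero _)).comp hS.extClass rfl
  rw [Abelian.Ext.comp_assoc_of_third_deg_zero, Abelian.Ext.comp_assoc_of_second_deg_zero, hn]
  rfl

lemma cechHMap_injective_zero {P Q : Cᵒᵖ ⥤ AddCommGrpCat.{u}} (φ : P ⟶ Q)
    (h : ∀ Z, Function.Injective (φ.app Z)) : Function.Injective (CechEdge.cechHMap Y φ 0) := by
  haveI : Mono (HomologicalComplex.homologyMap ((CechEdge.cxFunctor Y).map φ) 0) := by
    haveI : Mono (((CechEdge.cxFunctor Y).map φ).f 0) := (AddCommGrpCat.mono_iff_injective _).2 fun a b hab =>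
      Cech.map_injective Y (Functor.whiskerLeft (Over.forget U).op φ) (fun a => h _) (by
        rw [cxFunctor_map_eq] at hab; exact hab)
    rw [HomologicalComplex.mono_homologyMap_iff_up_to_refinements _ 0 0 1 (by simp) (by simp)]
    intro A x hx y hy
    refine ⟨A, 𝟙 A, inferInstance, 0, ?_⟩
    have : y ≫ (CechEdge.cx Q Y).d 0 0 = 0 := by simp
    rw [← cancel_mono (((CechEdge.cxFunctor Y).map φ).f 0)]
    simpa using hy.trans this
  exact (AddCommGrpCat.mono_iff_injective (HomologicalComplex.homologyMap ((CechEdge.cxFunctor Y).map φ) 0)).1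
    inferInstance

lemma cechHMap_bijective {P Q : Cᵒᵖ ⥤ AddCommGrpCat.{u}} (φ : P ⟶ Q) (p : ℕ)
    (h : ∀ (q : ℕ) (a : Fin (q + 1) → ι), Function.Bijective (φ.app (op (Cech.inter Y a).left))) :
    Function.Bijective (CechEdge.cechHMap Y φ p) := by
  haveI : ∀ q, IsIso (((CechEdge.cxFunctor Y).map φ).f q) := fun q => by
    rw [cxFunctor_map_eq, ConcreteCategory.isIso_iff_bijective]
    refine ⟨fun a b hab => Cech.map_injective Y _ (fun {r} a => (h r a).1) hab, fun z => ?_⟩
    choose y hy using fun a => (h q a).2 (Cech.ev (rst Q) Y a z)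
    exact ⟨Cech.mk (rst P) Y y, Cech.ext (rst Q) Y fun a =>
      (Cech.ev_map Y (Functor.whiskerLeft (Over.forget U).op φ) _ a).trans (by rw [Cech.ev_mk]; exact hy a)⟩
  haveI : IsIso ((CechEdge.cxFunctor Y).map φ) := HomologicalComplex.Hom.isIso_of_components _
  exact (asIso (HomologicalComplex.homologyMap ((CechEdge.cxFunctor Y).map φ) p)).addCommGroupIsoToAddEquiv.bijective

include he in
/-- Injectivity one degree higher. -/
lemma edgeSh_injective_succ (F : Sheaf J AddCommGrpCat.{u}) (p : ℕ)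
    (hρ : Function.Injective (CechEdge.cechHMap Y (rho (injEmbed F)) p))
    (hQ : Function.Injective (CechEdge.edgeSh e (injEmbed F).X₃ p))
    (hI : Function.Surjective (CechEdge.edgeSh e (injEmbed F).X₂ p)) :
    Function.Injective (CechEdge.edgeSh e F (p + 1)) := by
  haveI : Injective (injEmbed F).X₂ := inferInstanceAs (Injective (Injective.under F))
  have hS := injEmbed_shortExact F
  have hC := shortExact_cx Y (quo_shortExact hS)
  refine (injective_iff_map_eq_zero _).2 fun x' hx' => ?_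
  obtain ⟨x, hxx⟩ := (ShortComplex.ab_exact_iff _).1 (hC.homology_exact₁ p (p + 1) rfl) x'
    ((AddCommGrpCat.subsingleton_of_isZero (isZero_cechH_of_injective (injEmbed F).X₂ Y p)).elim _ _)
  subst hxx
  have h0 : CechEdge.extδ hS U p (CechEdge.edgeSh e _ p (CechEdge.cechHMap Y (rho (injEmbed F)) p x)) = 0 :=
    (edgeSh_delta he hS p x).symm.trans hx'
  obtain ⟨y, hy⟩ := Abelian.Ext.covariant_sequence_exact₃ (CohCx.freeSheaf J U) hS
    (CechEdge.edgeSh e _ p (CechEdge.cechHMap Y (rho (injEmbed F)) p x)) rfl h0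
  obtain ⟨z, rfl⟩ := hI y
  have h1 : CechEdge.cechHMap Y (rho (injEmbed F)) p x =
      CechEdge.cechHMap Y (injEmbed F).g.hom p z := hQ (by
    rw [edgeSh_natural he]
    exact hy.symm)
  have h2 : x = CechEdge.cechHMap Y (cokernel.π (injEmbed F).f.hom) p z := hρ (h1.trans (by
    rw [← cechHMap_comp, cokernel.π_desc]))
  rw [h2]
  exact ConcreteCategory.congr_hom (hC.comp_δ p (p + 1) rfl) z

include he in
theorem edgeSh_one_injective (F : Sheaf J AddCommGrpCat.{u}) :
    Function.Injective (CechEdge.edgeSh e F 1) :=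
  edgeSh_injective_succ he F 0 (cechHMap_injective_zero _ (rho_injective (injEmbed_shortExact F)))
    (edgeSh_zero he _).1 (edgeSh_zero he _).2

include he in
theorem edgeSh_bijective (p : ℕ) :
    ∀ F : Sheaf J AddCommGrpCat.{u}, CechNat.Mem (Over.forget U) Y F → Function.Bijective (CechEdge.edgeSh e F p) := by
  induction p with
  | zero => exact fun F _ => edgeSh_zero he F
  | succ p ih =>
    intro F hF
    haveI hInj : Injective (injEmbed F).X₂ := inferInstanceAs (Injective (Injective.under F))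
    have hS := injEmbed_shortExact F
    have hρ : Function.Bijective (CechEdge.cechHMap Y (rho (injEmbed F)) p) :=
      cechHMap_bijective _ p fun q a => ⟨rho_injective hS _,
        rho_surjective _ (surjective_sections_of_subsingleton hS _ (hF q a 0))⟩
    have hQ := ih _ (CechNat.mem_X₃ (Over.forget U) Y hF)
    refine ⟨edgeSh_injective_succ he F p hρ.1 hQ.1 (ih _ (CechNat.mem_injective (Over.forget U) Y _)).2,
      fun y' => ?_⟩
    obtain ⟨y, hy⟩ := Abelian.Ext.covariant_sequence_exact₁ (CohCx.freeSheaf J U) hS y'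
      (haveI := Abelian.Ext.subsingleton_of_injective (CohCx.freeSheaf J U) (injEmbed F).X₂ p
       Subsingleton.elim _ _) rfl
    obtain ⟨r, rfl⟩ := hQ.2 y
    obtain ⟨x, rfl⟩ := hρ.2 r
    exact ⟨_, (edgeSh_delta he hS p x).trans hy⟩

end Step

section Refine

variable {κ : Type u} {Y' : κ → Over U} (f : FormalCoproduct.mk ι Y ⟶ FormalCoproduct.mk κ Y')

/-- Refinement as a natural transformation. -/
noncomputable def refineNat : CechEdge.cxFunctor Y' ⟶ CechEdge.cxFunctor (C := C) Y where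
  app P := CohCx.cechRefine P f
  naturality P Q φ := by
    change (AlgebraicTopology.alternatingCofaceMapComplex _).map _ ≫ (AlgebraicTopology.alternatingCofaceMapComplex _).map _ =
      (AlgebraicTopology.alternatingCofaceMapComplex _).map _ ≫ (AlgebraicTopology.alternatingCofaceMapComplex _).map _
    rw [← Functor.map_comp, ← Functor.map_comp]
    congr 1
    exact (((Functor.whiskeringLeft _ _ _).map
      (NatTrans.rightOp (FormalCoproduct.cechFunctor.map f))).naturality
        ((FormalCoproduct.evalOp.{u} (Over U) AddCommGrpCat.{u}).map (Functor.whiskerLeft _ φ)))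

lemma ev_refine (P : Cᵒᵖ ⥤ AddCommGrpCat.{u}) (a : Fin 1 → ι) (y : (CechEdge.cx P Y').X 0) :
    Cech.ev (rst P) Y a ((CohCx.cechRefine P f).f 0 y) =
      P.map (((FormalCoproduct.cechFunctor.map f).app (op (SimplexCategory.mk 0))).φ a).left.op
        (Cech.ev (rst P) Y' (((FormalCoproduct.cechFunctor.map f).app (op (SimplexCategory.mk 0))).f a) y) := by
  refine Eq.trans ?_ (ConcreteCategory.congr_hom (Pi.lift_π (fun a : Fin 1 → ι =>
    Pi.π (fun i : Fin 1 → κ => P.obj (op (Cech.inter Y' i).left))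
      (((FormalCoproduct.cechFunctor.map f).app (op (SimplexCategory.mk 0))).f a) ≫
      P.map (((FormalCoproduct.cechFunctor.map f).app (op (SimplexCategory.mk 0))).φ a).left.op) a) y)
  rfl

lemma toCech_refine (P : Cᵒᵖ ⥤ AddCommGrpCat.{u}) (s : P.obj (op U)) :
    (HomologicalComplex.homologyMap (CohCx.cechRefine P f) 0).hom (CechEdge.toCech Y' P s) =
      CechEdge.toCech Y P s := by
  have h : 𝟙 (P.obj (op U)) ≫ CechEdge.toCech₀ P Y = CechEdge.toCech₀ P Y' ≫ (CohCx.cechRefine P f).f 0 := by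
    ext x
    refine Cech.ext _ Y fun a => ?_
    refine (ev_toCech₀ P x a).trans ?_
    change _ = Cech.ev (rst P) Y a ((CohCx.cechRefine P f).f 0 (CechEdge.toCech₀ P Y' x))
    rw [ev_refine f P a]
    refine Eq.trans ?_ (congrArg _ (ev_toCech₀ (Y := Y') P x _)).symm
    refine Eq.trans ?_ (ConcreteCategory.congr_hom (P.map_comp _ _) x)
    exact congrArg (fun m => P.map m.op x) (Over.w _).symm
  exact (ConcreteCategory.congr_hom (lift_homology_natural (CohCx.cechRefine P f) (𝟙 (P.obj (op U))) _ _ h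
    (CechEdge.toCech₀_d P Y') (CechEdge.toCech₀_d P Y)) s).symm

lemma refine_edge {e : ∀ (P : Cᵒᵖ ⥤ AddCommGrpCat.{u}) (p : ℕ), CohCx.cechH P Y p →+ CohSite.HU (CechEdge.shf J P) p U}
    {e' : ∀ (P : Cᵒᵖ ⥤ AddCommGrpCat.{u}) (p : ℕ), CohCx.cechH P Y' p →+ CohSite.HU (CechEdge.shf J P) p U}
    (he : CechEdge.IsEdge J Y e) (he' : CechEdge.IsEdge J Y' e') (P : Cᵒᵖ ⥤ AddCommGrpCat.{u}) (p : ℕ)
    (x : CohCx.cechH P Y' p) :
    e P p ((HomologicalComplex.homologyMap (CohCx.cechRefine P f) p).hom x) = e' P p x := by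
  let e'' : ∀ (P : Cᵒᵖ ⥤ AddCommGrpCat.{u}) (p : ℕ), CohCx.cechH P Y' p →+ CohSite.HU (CechEdge.shf J P) p U :=
    fun P p => (e P p).comp (HomologicalComplex.homologyMap (CohCx.cechRefine P f) p).hom
  have h'' : CechEdge.IsEdge J Y' e'' :=
    { cover := he'.cover
      zero := fun P s => (congrArg (e P 0) (toCech_refine f P s)).trans (he.zero P s)
      natural := fun P Q φ p x => by
        change e Q p _ = CechEdge.HUmap _ p U (e P p _)
        rw [← he.natural]
        refine congrArg (e Q p) ?_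
        exact ConcreteCategory.congr_hom
          ((Functor.whiskerRight (refineNat f) (HomologicalComplex.homologyFunctor _ _ p)).naturality φ) x
      delta := fun S hS hC p x => by
        change e S.X₁ (p + 1) _ =
          CechEdge.extδ (hS.map_of_exact (presheafToSheaf J AddCommGrpCat.{u})) U p (e S.X₃ p _)
        rw [← he.delta S hS (shortExact_cx Y hS) p]
        refine congrArg (e S.X₁ (p + 1)) ?_
        exact ConcreteCategory.congr_hom (HomologicalComplex.HomologySequence.δ_naturality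
          (S.mapNatTrans (refineNat f)) hC (shortExact_cx Y hS) p (p + 1) rfl) x }
  exact congrArg (fun T : ∀ (P : Cᵒᵖ ⥤ AddCommGrpCat.{u}) (p : ℕ),
    CohCx.cechH P Y' p →+ CohSite.HU (CechEdge.shf J P) p U => T P p x) (edge_unique h'' he')

end Refine

end Groth.Agent.CechEdgeLib
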